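import Mathlib
import Cfsg.Agent.Lib.Helper9.Stem4

set_option autoImplicit false
set_option maxRecDepth 1000000

/-! A presentation of `PSU(4,3)` on generators `a`, `b` of orders 2 and 5 and `v = a b` of order 7,
and a presentation of a central extension: the relators `a ^ 2`, `b ^ 5`, `R32`, `R33`, `R34`,
`R39` and `R40` become central of order dividing 216. -/

namespace Cfsg.Agent.Helper9.U43M

open Cfsg Cfsg.Agent.Helper9 Cfsg.Agent.Helper9.Stem4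

/-- The exact relator: a relator modified by central elements so that the exponent sums of `a` and
`b` are `-3` and `-2`. -/
def X : FG :=
  b⁻¹ * b⁻¹ * a⁻¹ * b⁻¹ * b⁻¹ * a⁻¹ * b * b * a⁻¹ * b⁻¹ * b⁻¹ * a⁻¹ * b * a⁻¹ * b * b * a⁻¹ * b *
  a⁻¹ * b * a⁻¹ * b⁻¹ * a⁻¹ * b⁻¹ * a * b * b * a * b⁻¹ * a * b⁻¹ * a * b⁻¹ * b⁻¹ * a * b * a

/-- A relator. -/
def R32 : FG :=
  b⁻¹ * b⁻¹ * a * b⁻¹ * a * b⁻¹ * b⁻¹ * a * b * a * b⁻¹ * a * b⁻¹ * a * b⁻¹ * b⁻¹ * a * b⁻¹ * a *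
  b⁻¹ * a * b * a * b * a * b⁻¹ * a * b⁻¹ * b⁻¹ * a * b⁻¹ * a * b * b * a * b * a

/-- A relator. -/
def R33 : FG :=
  b⁻¹ * b⁻¹ * a * b⁻¹ * a * b⁻¹ * b⁻¹ * a * b * a * b * b * a * b⁻¹ * a * b⁻¹ * b⁻¹ * a * b⁻¹ *
  a * b * a * b * a * b⁻¹ * a * b⁻¹ * a * b⁻¹ * b⁻¹ * a * b⁻¹ * a * b⁻¹ * a * b * a

/-- A relator. -/
def R34 : FG :=
  b⁻¹ * b⁻¹ * a * b⁻¹ * a * b⁻¹ * a * b⁻¹ * a * b⁻¹ * a * b * b * a * b * a * b⁻¹ * a * b * a *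
  b * a * b⁻¹ * a * b * a * b⁻¹ * b⁻¹ * a * b * a * b⁻¹ * a * b * a * b * a

/-- A relator. -/
def R39 : FG :=
  b⁻¹ * b⁻¹ * a * b⁻¹ * b⁻¹ * a * b⁻¹ * a * b⁻¹ * a * b⁻¹ * b⁻¹ * a * b⁻¹ * b⁻¹ * a * b * a *
  b⁻¹ * b⁻¹ * a * b⁻¹ * b⁻¹ * a * b⁻¹ * a * b * a * b⁻¹ * b⁻¹ * a * b⁻¹ * a * b⁻¹ * a * b * b * a

/-- A relator. -/
def R40 : FG :=
  b⁻¹ * b⁻¹ * a * b⁻¹ * b⁻¹ * a * b⁻¹ * a * b⁻¹ * a * b⁻¹ * b⁻¹ * a * b⁻¹ * b⁻¹ * a * b * b * a *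
  b⁻¹ * a * b⁻¹ * a * b⁻¹ * b⁻¹ * a * b * a * b⁻¹ * a * b⁻¹ * b⁻¹ * a * b⁻¹ * b⁻¹ * a * b * a

/-- The data of the two presentations. -/
def pres : Pres where
  X := X
  Rl := [a ^ 2, b ^ 5, R32, R33, R34, R39, R40]
  q := 216
  m := 7

theorem es0_X : (es0 pres.X).toAdd = -2 - 1 := by decide +kernel

theorem es1_X : (es1 pres.X).toAdd = -2 := by decide +kernel

theorem es2_X : (es2 pres.X).toAdd = 0 := by decide +kernel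

theorem a2_mem : a ^ 2 ∈ pres.Rl := by
  simp [pres]

theorem b5_mem : b ^ 5 ∈ pres.Rl := by
  simp [pres]

theorem R32_mem : R32 ∈ pres.Rl := by
  simp [pres]

theorem R33_mem : R33 ∈ pres.Rl := by
  simp [pres]

theorem R34_mem : R34 ∈ pres.Rl := by
  simp [pres]

theorem R39_mem : R39 ∈ pres.Rl := by
  simp [pres]

theorem R40_mem : R40 ∈ pres.Rl := by
  simp [pres]

theorem Rl_cases {R : FG} (h : R ∈ pres.Rl) :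
    R = a ^ 2 ∨ R = b ^ 5 ∨ R = R32 ∨ R = R33 ∨ R = R34 ∨ R = R39 ∨ R = R40 := by
  simpa [pres] using h

theorem extraG_eq : pres.extraG = [v ^ 7, v⁻¹ * a * b, X, a ^ 2, b ^ 5, R32, R33, R34, R39, R40] :=
  rfl

end Cfsg.Agent.Helper9.U43M
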