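import Mathlib
import Cfsg.Agent.Lib.Helper9.Vec4F9
import Cfsg.Agent.Lib.Helper9.U43M.Defs

set_option autoImplicit false
set_option maxRecDepth 1000000

/-! Three unitary matrices of size 4 over the field with nine elements which satisfy, up to
scalars, the relators of the presentation of `U43M.Defs`. -/

namespace Cfsg.Agent.Helper9.U43M

open Matrix Cfsg.Agent.Helper9 Cfsg.Agent.Helper9.Vec4F9 Cfsg.Agent.Helper9.Stem4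

/-- The matrices of the generators. -/
def g4 : Fin 3 → M4 := ![
  ⟨⟨⟨2, 0⟩, ⟨2, 0⟩, ⟨2, 0⟩, ⟨0, 1⟩⟩,
   ⟨⟨2, 0⟩, ⟨1, 0⟩, ⟨1, 0⟩, ⟨0, 1⟩⟩,
   ⟨⟨2, 0⟩, ⟨1, 0⟩, ⟨2, 0⟩, ⟨0, 2⟩⟩,
   ⟨⟨0, 2⟩, ⟨0, 2⟩, ⟨0, 1⟩, ⟨1, 0⟩⟩⟩,
  ⟨⟨⟨0, 1⟩, ⟨2, 1⟩, ⟨2, 1⟩, ⟨1, 2⟩⟩,
   ⟨⟨0, 0⟩, ⟨0, 1⟩, ⟨2, 2⟩, ⟨2, 0⟩⟩,
   ⟨⟨2, 1⟩, ⟨1, 2⟩, ⟨2, 1⟩, ⟨2, 0⟩⟩,
   ⟨⟨0, 2⟩, ⟨2, 2⟩, ⟨2, 0⟩, ⟨0, 0⟩⟩⟩,
  ⟨⟨⟨2, 1⟩, ⟨1, 1⟩, ⟨0, 1⟩, ⟨1, 1⟩⟩,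
   ⟨⟨0, 0⟩, ⟨0, 1⟩, ⟨2, 1⟩, ⟨0, 1⟩⟩,
   ⟨⟨0, 1⟩, ⟨2, 2⟩, ⟨1, 1⟩, ⟨2, 1⟩⟩,
   ⟨⟨0, 1⟩, ⟨2, 1⟩, ⟨1, 1⟩, ⟨2, 2⟩⟩⟩]

/-- The matrices of the inverses of the generators. -/
def gi4 : Fin 3 → M4 := ![
  ⟨⟨⟨2, 0⟩, ⟨2, 0⟩, ⟨2, 0⟩, ⟨0, 1⟩⟩,
   ⟨⟨2, 0⟩, ⟨1, 0⟩, ⟨1, 0⟩, ⟨0, 1⟩⟩,
   ⟨⟨2, 0⟩, ⟨1, 0⟩, ⟨2, 0⟩, ⟨0, 2⟩⟩,
   ⟨⟨0, 2⟩, ⟨0, 2⟩, ⟨0, 1⟩, ⟨1, 0⟩⟩⟩,
  ⟨⟨⟨0, 2⟩, ⟨0, 0⟩, ⟨2, 2⟩, ⟨0, 1⟩⟩,
   ⟨⟨2, 2⟩, ⟨0, 2⟩, ⟨1, 1⟩, ⟨2, 1⟩⟩,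
   ⟨⟨2, 2⟩, ⟨2, 1⟩, ⟨2, 2⟩, ⟨2, 0⟩⟩,
   ⟨⟨1, 1⟩, ⟨2, 0⟩, ⟨2, 0⟩, ⟨0, 0⟩⟩⟩,
  ⟨⟨⟨2, 2⟩, ⟨0, 0⟩, ⟨0, 2⟩, ⟨0, 2⟩⟩,
   ⟨⟨1, 2⟩, ⟨0, 2⟩, ⟨2, 1⟩, ⟨2, 2⟩⟩,
   ⟨⟨0, 2⟩, ⟨2, 2⟩, ⟨1, 2⟩, ⟨1, 2⟩⟩,
   ⟨⟨1, 2⟩, ⟨0, 2⟩, ⟨2, 2⟩, ⟨2, 1⟩⟩⟩]

theorem g4_inv : ∀ s : Fin 3, ∀ j : Fin 4, (g4 s).app ((gi4 s).app (bas j)) = bas j := by
  decide +kernel

theorem gi4_inv : ∀ s : Fin 3, ∀ j : Fin 4, (gi4 s).app ((g4 s).app (bas j)) = bas j := by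
  decide +kernel

/-- The matrices as units. -/
def U4 : Fin 3 → GL (Fin 4) F9 := unitOf g4 gi4 g4_inv gi4_inv

/-- The scalar matrices. -/
def scal (c : F9) : M4 :=
  ⟨⟨c, 0, 0, 0⟩,
   ⟨0, c, 0, 0⟩,
   ⟨0, 0, c, 0⟩,
   ⟨0, 0, 0, c⟩⟩

theorem rel_extra : ∀ r ∈ pres.extraG, ∃ c ∈ [(1 : F9), ⟨0, 1⟩], ∀ j : Fin 4,
    ev g4 gi4 r.toWord (bas j) = (scal c).app (bas j) := by
  decide +kernel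

theorem scal_toMat : ∀ c : F9, ∀ q : Fin 4 × Fin 4,
    (scal c).toMat q.1 q.2 = if q.1 = q.2 then c else 0 := by
  decide +kernel

theorem scal_ne : ∀ c ∈ [(1 : F9), ⟨0, 1⟩], c ≠ 0 := by decide

/-- The value of every relator is a scalar matrix. -/
theorem rels9 : ∀ r ∈ pres.relsG, ∃ c : F9, c ≠ 0 ∧
    ((FreeGroup.lift U4 r : GL (Fin 4) F9)).val = c • (1 : Matrix (Fin 4) (Fin 4) F9) := by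
  intro r hr
  obtain ⟨c, hc, h⟩ := rel_extra r (relsG_cases hr)
  refine ⟨c, scal_ne c hc, ?_⟩
  have h1 := lift_val_eq g4 gi4 g4_inv gi4_inv r (scal c) h
  show ((FreeGroup.lift (unitOf g4 gi4 g4_inv gi4_inv) r : GL (Fin 4) F9)).val = _
  rw [h1]
  ext i j
  rw [scal_toMat c (i, j), Matrix.smul_apply, Matrix.one_apply, smul_eq_mul]
  split_ifs <;> simp

theorem g4_unitary : ∀ s : Fin 3, ∀ q : Fin 4 × Fin 4,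
    ∑ k, (g4 s).toMat k q.1 * ((g4 s).toMat k q.2) ^ 3 = if q.1 = q.2 then 1 else 0 := by
  decide +kernel

/-! ### Determinants -/

theorem pow_five_eq_one : ∀ x : F9, x ^ 5 = 1 → x = 1 := by decide +kernel

theorem pow_seven_eq_one : ∀ x : F9, x ^ 7 = 1 → x = 1 := by decide +kernel

theorem b_pow : ∀ j : Fin 4, ev g4 gi4 (b ^ 5).toWord (bas j) = bas j := by decide +kernel

theorem v_pow : ∀ j : Fin 4, ev g4 gi4 (v ^ 7).toWord (bas j) = bas j := by decide +kernel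

theorem vab_one : ∀ j : Fin 4, ev g4 gi4 (v⁻¹ * a * b).toWord (bas j) = bas j := by
  decide +kernel

theorem U4_val (s : Fin 3) : (U4 s).val = (g4 s).toMat := rfl

theorem det_b : (g4 1).toMat.det = 1 := by
  apply pow_five_eq_one
  have h := lift_eq_one g4 gi4 g4_inv gi4_inv (b ^ 5) b_pow
  rw [map_pow, b, FreeGroup.lift_apply_of] at h
  have h1 := congrArg (fun M : GL (Fin 4) F9 => M.val.det) h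
  simp only [Units.val_pow_eq_pow_val, Matrix.det_pow, Units.val_one, Matrix.det_one] at h1
  exact h1

theorem det_v : (g4 2).toMat.det = 1 := by
  apply pow_seven_eq_one
  have h := lift_eq_one g4 gi4 g4_inv gi4_inv (v ^ 7) v_pow
  rw [map_pow, v, FreeGroup.lift_apply_of] at h
  have h1 := congrArg (fun M : GL (Fin 4) F9 => M.val.det) h
  simp only [Units.val_pow_eq_pow_val, Matrix.det_pow, Units.val_one, Matrix.det_one] at h1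
  exact h1

theorem det_a : (g4 0).toMat.det = 1 := by
  have h := lift_eq_one g4 gi4 g4_inv gi4_inv (v⁻¹ * a * b) vab_one
  rw [map_mul, map_mul, map_inv, v, a, b, FreeGroup.lift_apply_of, FreeGroup.lift_apply_of,
    FreeGroup.lift_apply_of] at h
  have h2 : unitOf g4 gi4 g4_inv gi4_inv 2 =
      unitOf g4 gi4 g4_inv gi4_inv 0 * unitOf g4 gi4 g4_inv gi4_inv 1 := by
    calc unitOf g4 gi4 g4_inv gi4_inv 2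
        = unitOf g4 gi4 g4_inv gi4_inv 2 * ((unitOf g4 gi4 g4_inv gi4_inv 2)⁻¹ *
          unitOf g4 gi4 g4_inv gi4_inv 0 * unitOf g4 gi4 g4_inv gi4_inv 1) := by rw [h, mul_one]
      _ = _ := by group
  have h1 := congrArg (fun M : GL (Fin 4) F9 => M.val.det) h2
  simp only [Units.val_mul, Matrix.det_mul] at h1
  have e0 : (unitOf g4 gi4 g4_inv gi4_inv 0).val = (g4 0).toMat := rfl
  have e1 : (unitOf g4 gi4 g4_inv gi4_inv 1).val = (g4 1).toMat := rfl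
  have e2 : (unitOf g4 gi4 g4_inv gi4_inv 2).val = (g4 2).toMat := rfl
  rw [e0, e1, e2, det_b, det_v, mul_one] at h1
  exact h1.symm

theorem g4_det (s : Fin 3) : (g4 s).toMat.det = 1 := by
  fin_cases s
  · exact det_a
  · exact det_b
  · exact det_v

/-- The first and third matrices do not commute. -/
theorem g4_ncomm : (g4 0).app ((g4 2).app (bas 0)) ≠ (g4 2).app ((g4 0).app (bas 0)) := by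
  decide +kernel

theorem U4_ncomm : (U4 0).val * (U4 2).val ≠ (U4 2).val * (U4 0).val := by
  intro h
  apply g4_ncomm
  have h1 := congrArg (fun M => M *ᵥ (bas 0).toVec) h
  simp only [← Matrix.mulVec_mulVec] at h1
  rw [U4_val, U4_val, toMat_mulVec, toMat_mulVec, toMat_mulVec, toMat_mulVec] at h1
  have h2 := congrArg V4.ofVec h1
  have h3 : ∀ w : V4, V4.ofVec w.toVec = w := fun w => rfl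
  rw [h3, h3] at h2
  exact h2

end Cfsg.Agent.Helper9.U43M
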