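import Mathlib
import Cfsg.Agent.Lib.Helper9.U43M.Defs
import Cfsg.Agent.Lib.Helper9.LTCIndex
import Cfsg.Agent.Lib.Helper9.TC2Cyc
import Cfsg.Agent.Lib.Helper9.TCData.U43P0.All

set_option autoImplicit false
set_option maxRecDepth 1000000

/-! The order of the presented group of `U43M.Defs` is at most 3265920: the labelled coset table
over the subgroup generated by `v`, read with trivial central elements. -/

namespace Cfsg.Agent.Helper9.U43M

open Cfsg Cfsg.Agent.Helper9 Cfsg.Agent.Helper9.TC2 Cfsg.Agent.Helper9.TCData Cfsg.Spor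
  Cfsg.Agent.Helper9.LTC Cfsg.Agent.Helper9.LTCM Cfsg.Agent.Helper9.LTCP Cfsg.Agent.Helper9.Stem4
open scoped IsMulCommutative

theorem hrelW : U43P0.relWords = pres.extraG.map (colWord cols) := by
  decide +kernel

theorem hrelL : U43P0.relLabs =
    [[], [], [], unitV 0, unitV 1, unitV 2, unitV 3, unitV 4, unitV 5, unitV 6] := by
  decide +kernel

theorem inv_eq : ∀ c < 6, U43P0.tab.inv c = invCol cols c := by decide

theorem inv_lt : ∀ c < U43P0.tab.k, U43P0.tab.inv c < U43P0.tab.k := by decide

/-- The columns in the group. -/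
noncomputable def eG : ℕ → pres.PS := eCol [] pres.extraG cols

/-- The subgroup of the group. -/
abbrev HG : Subgroup pres.PS := coxH [] pres.extraG {s | s ∈ [v]}

theorem prod_eG (r : FG) : ((colWord cols r).map eG).prod = PresentedGroup.mk pres.relsG r :=
  prod_colWord_eCol colsOK r

theorem zeta_one {P : Type*} [Group P] (d : ℕ) (f : ℕ → ℤ) :
    zeta (fun _ => (1 : Subgroup.center P)) d f = 1 := by
  unfold zeta
  apply Finset.prod_eq_one
  intro i _
  rw [one_zpow]

theorem hrelG (j : ℕ) : ((U43P0.relWords.getD j []).map eG).prod =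
    (zeta (fun _ => (1 : Subgroup.center pres.PS)) U43P0.tab.d
      (vec (U43P0.relLabs.getD j [])) : pres.PS) := by
  rw [zeta_one, hrelW]
  show _ = (1 : pres.PS)
  have e : ([] : List ℕ) = colWord cols (1 : FG) := rfl
  rw [e, List.getD_map, prod_eG]
  by_cases hj : j < pres.extraG.length
  · rw [List.getD_eq_getElem _ _ hj]
    exact PresentedGroup.one_of_mem (mem_relsG (List.getElem_mem hj))
  · rw [List.getD_eq_default _ _ (not_lt.1 hj), map_one]

theorem v_mem_HG : eG 4 ∈ HG := by
  have hl : 4 < cols.length := by decide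
  rw [eG, eCol_of_lt hl]
  exact Subgroup.mem_map_of_mem _ (Subgroup.subset_closure (by simp [cols, v]; rfl))

/-- The interpretation of the labelled table in the group. -/
noncomputable def interpG : LInterp HG U43P0.tab where
  e := eG
  zc := fun _ => 1
  e_inv := by
    intro c hc
    have hl : c < cols.length := hc
    rw [inv_eq c hc, eG, eCol_invCol colsOK hl, mul_inv_cancel]
  rot_ok := rot_ok_of_chkP U43P0.tab eG (fun _ => 1) U43P0.relWords U43P0.relLabs U43P0.rotSrc
    U43P0.rot_src hrelG
  hcols_ok := by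
    intro c hc
    have hc2 : c = 4 := by simpa [U43P0.tab, U43P0.ptab, LTCP.PTab.toLTab] using hc
    subst hc2
    exact v_mem_HG
  free_ok := by
    intro i hi
    exact absurd hi (by show ¬ (7 + i < 7); omega)

theorem hgenG : Subgroup.closure {g | ∃ c < U43P0.tab.k, g = interpG.e c} = ⊤ := by
  rw [eq_top_iff, ← PresentedGroup.closure_range_of, Subgroup.closure_le]
  rintro _ ⟨i, rfl⟩
  apply Subgroup.subset_closure
  fin_cases i
  · refine ⟨0, by decide, ?_⟩
    show _ = eG 0
    rw [eG, eCol_of_lt (by decide : 0 < cols.length)]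
    rfl
  · refine ⟨2, by decide, ?_⟩
    show _ = eG 2
    rw [eG, eCol_of_lt (by decide : 2 < cols.length)]
    rfl
  · refine ⟨4, by decide, ?_⟩
    show _ = eG 4
    rw [eG, eCol_of_lt (by decide : 4 < cols.length)]
    rfl

/-- The presented group is finite of order at most 3265920. -/
theorem hub : Finite pres.PS ∧ Nat.card pres.PS ≤ 3265920 := by
  have hH := card_coxH_single_le (edges := ([] : List (Fin 3 × ℕ × Fin 3)))
    (extra := pres.extraG) v 7 (by decide) (mem_relsG (P := pres) v13_memG)
  have := hH.1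
  have h := card_le interpG (q := 216) (fun _ => rfl) U43P0.h0 (by decide) U43P0.hE inv_lt hgenG
    hH.2
  exact ⟨h.1, h.2⟩

end Cfsg.Agent.Helper9.U43M
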