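import Mathlib
import Cfsg.Agent.Lib.Helper9.TC2Spor
import Cfsg.Agent.Lib.Helper9.U43M.Hub
import Cfsg.Agent.Lib.Helper9.TCData.U43B0.Cert
import Cfsg.Agent.Lib.Helper9.TCData.U43CX.Cert

set_option autoImplicit false
set_option maxRecDepth 1000000

/-! The presented group of `U43M.Defs` is simple of order 3265920: it acts primitively on the 280
cosets of a subgroup, and the normal closure of an element of order 7 is the whole group. -/

namespace Cfsg.Agent.Helper9.U43M

open Cfsg.Agent.Helper9 Cfsg.Agent.Helper9.TC2 Cfsg.Agent.Helper9.TCData Cfsg.Spor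
  Cfsg.Agent.Helper9.Stem4

theorem extra_eq : U43B0.extra = pres.extraG := by decide +kernel

/-- The presented group of the certificate. -/
abbrev PB : Type := PresentedGroup (relSet U43B0.edges U43B0.extra)

theorem relSet_eq : relSet U43B0.edges U43B0.extra = pres.relsG := by
  show relSet [] U43B0.extra = relSet [] pres.extraG
  rw [extra_eq]

theorem hubB : Finite PB ∧ Nat.card PB ≤ 3265920 := by
  have h := hub
  unfold PB
  rw [relSet_eq]
  exact h

theorem hslp : ∀ j < U43B0.slp.length, ∀ c ∈ (U43B0.slp.getD j (0, [])).2, c < U43B0.tab.k + j := by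
  decide +kernel

theorem hok : U43B0.cert.LevsOK (U43B0.tab.k + U43B0.slp.length) U43B0.lidx U43B0.lpar U43B0.lgi 0 []
    U43B0.levs := by
  unfold U43B0.levs
  refine ⟨by decide, by decide +kernel, U43B0.hT0, by decide +kernel, ?_⟩
  refine ⟨by decide, by decide +kernel, U43B0.hT1, by decide +kernel, ?_⟩
  refine ⟨by decide, by decide +kernel, U43B0.hT2, by decide +kernel, ?_⟩
  refine ⟨by decide, by decide +kernel, U43B0.hT3, by decide +kernel, ?_⟩
  trivial

theorem hprod : CoxCert.levProd U43B0.levs = 3265920 := by decide +kernel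

theorem hlab : ∀ i < U43B0.cert.D.n, U43B0.orb.lab i < 3 := by
  intro i hi
  have := U43B0.hOL i hi
  rwa [Nat.blt_eq] at this

theorem hroot : ∀ l < 3, U43B0.orb.root l < U43B0.cert.D.n ∧ U43B0.orb.lab (U43B0.orb.root l) = l := by
  decide +kernel

theorem hsz : ∀ l < 3, cnt (fun i => Nat.beq (U43B0.orb.lab i) l) U43B0.cert.D.n =
    ([1, 36, 243] : List ℕ).getD l 0 := by
  decide +kernel

theorem hsub : ∀ T ∈ (Finset.range 3).powerset, 0 ∈ T →
    (∑ l ∈ T, ([1, 36, 243] : List ℕ).getD l 0) ∣ U43B0.cert.D.n →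
    T = {0} ∨ T = Finset.range 3 := by
  decide +kernel

theorem hxw : colWord U43B0.cert.cols U43CX.xelt = U43B0.xw := by decide +kernel

theorem hx : ∀ i < U43B0.cert.D.n,
    (runT U43B0.cert.D (colWord U43B0.cert.cols U43CX.xelt))^[7 ^ 1] i = i := by
  intro i hi
  rw [hxw]
  exact Nat.eq_of_beq_eq_true (U43B0.hX i hi)

/-- The presented group of the certificate is simple of order 3265920. -/
theorem pb_simple : IsSimpleGroup PB ∧ Nat.card PB = 3265920 := by
  have : Fact (Nat.Prime 7) := ⟨by norm_num⟩
  exact U43B0.cert.isSimple_card 3265920 hubB U43B0.slp hslp U43B0.hSlp U43B0.lidx U43B0.lpar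
    U43B0.lgi U43B0.levs hok hprod U43B0.orb U43B0.hO1 U43B0.hO2 3 0 [1, 36, 243] hlab hroot
    hsz (by decide +kernel) (by decide) (by decide) hsub 7 1 (by decide) (by norm_num)
    (by norm_num) U43CX.xelt 1 hx (by
      have h := (U43CX.cert.card_eq_of_nil (by intro s hs; exact absurd hs (by simp [U43CX.sgensL]))).2
      rw [U43CX.cert_n] at h
      exact h)

/-- The presented group is simple of order 3265920. -/
theorem ps_simple : IsSimpleGroup pres.PS ∧ Nat.card pres.PS = 3265920 := by
  have h := pb_simple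
  unfold PB at h
  rw [relSet_eq] at h
  exact h

end Cfsg.Agent.Helper9.U43M
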