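import Mathlib
import Cfsg.Prelude.Def_Classical
import Cfsg.Agent.Lib.Helper9.U43M.Simple
import Cfsg.Agent.Lib.Helper9.U43M.Mat
import Cfsg.Agent.Lib.Helper9.TC2Fin
import Cfsg.Agent.Lib.Helper11.Unitary3
import Cfsg.Agent.Lib.Helper12.PSUAdjArith

set_option autoImplicit false
set_option maxRecDepth 1000000

/-! The presented group of `U43M.Defs` is isomorphic to `PSU(4, 3)`, realised over any field with
nine elements. -/

namespace Cfsg.Agent.Helper9.U43M

open Matrix Cfsg Cfsg.Agent.Helper9 Cfsg.Agent.Helper9.TC2 Cfsg.Agent.Helper9.TCData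
  Cfsg.Spor Cfsg.Agent.Helper9.Vec4F9 Cfsg.Agent.Helper9.Stem4 Cfsg.Agent.Helper11.Herm

section Generic

variable {F : Type*} [Field F] [Fintype F] (hF : Fintype.card F = 9)

/-- A ring isomorphism from the model. -/
noncomputable def eF : F9 ≃+* F := FiniteField.ringEquivOfCardEq (F9.card.trans hF.symm)

omit [Field F] in
include hF in
theorem hF' : Fintype.card F = 3 ^ 2 := hF.trans (by norm_num)

theorem isU_map (s : Fin 3) (φ : F →+* F) (hφ : ∀ x, φ x = x ^ 3) :
    IsU φ ((eF hF).toRingHom.mapMatrix (g4 s).toMat) := by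
  unfold IsU
  ext i j
  rw [Matrix.mul_apply]
  simp only [Matrix.transpose_apply, Matrix.map_apply, RingHom.mapMatrix_apply, hφ, ← map_pow,
    ← map_mul, ← map_sum]
  rw [g4_unitary s (i, j), Matrix.one_apply]
  split_ifs <;> simp

/-- The generators, as elements of the special unitary group. -/
noncomputable def gS (s : Fin 3) : Cfsg.SU 4 F 3 :=
  mkSU (q := 3) (hF' hF) 4 ((eF hF).toRingHom.mapMatrix (g4 s).toMat)
    (by rw [← RingHom.map_det, g4_det, map_one]) (fun φ hφ => isU_map hF s φ hφ)

/-- The special unitary group in the general linear group. -/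
def suToGL : Cfsg.SU 4 F 3 →* GL (Fin 4) F :=
  Matrix.SpecialLinearGroup.toGL.comp (Cfsg.SU 4 F 3).subtype

omit [Fintype F] in
theorem suToGL_injective : Function.Injective (suToGL (F := F)) := by
  intro a b h
  apply Subtype.ext
  apply Subtype.ext
  exact congrArg Units.val h

/-- The change of field on the general linear groups. -/
noncomputable def glMap : GL (Fin 4) F9 →* GL (Fin 4) F :=
  Units.map ((eF hF).toRingHom.mapMatrix : Matrix (Fin 4) (Fin 4) F9 →+* Matrix (Fin 4) (Fin 4) F).toMonoidHom

theorem glMap_val (M : GL (Fin 4) F9) :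
    (glMap hF M).val = (eF hF).toRingHom.mapMatrix M.val := rfl

theorem hgen (s : Fin 3) : suToGL (gS hF s) = glMap hF (U4 s) := by
  apply Units.ext
  rfl

theorem hcomp : (suToGL (F := F)).comp (FreeGroup.lift (gS hF)) =
    (glMap hF).comp (FreeGroup.lift U4) := by
  apply FreeGroup.ext_hom
  intro s
  simp only [MonoidHom.comp_apply, FreeGroup.lift_apply_of]
  exact hgen hF s

omit [Fintype F] in
/-- An element of the special unitary group whose matrix is a scalar matrix is central. -/
theorem mem_center_of_scalar (z : Cfsg.SU 4 F 3) (c : F)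
    (hz : (suToGL z).val = c • (1 : Matrix (Fin 4) (Fin 4) F)) :
    z ∈ Subgroup.center (Cfsg.SU 4 F 3) := by
  rw [Subgroup.mem_center_iff]
  intro g
  apply suToGL_injective
  rw [map_mul, map_mul]
  apply Units.ext
  rw [Units.val_mul, Units.val_mul, hz, Matrix.mul_smul, Matrix.smul_mul, Matrix.mul_one,
    Matrix.one_mul]

theorem rels_center : ∀ r ∈ pres.relsG,
    FreeGroup.lift (gS hF) r ∈ Subgroup.center (Cfsg.SU 4 F 3) := by
  intro r hr
  obtain ⟨c, -, hc⟩ := rels9 r hr
  apply mem_center_of_scalar _ ((eF hF) c)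
  have h := DFunLike.congr_fun (hcomp hF) r
  simp only [MonoidHom.comp_apply] at h
  rw [h, glMap_val, hc]
  ext i j
  rw [RingHom.mapMatrix_apply, Matrix.map_apply, Matrix.smul_apply, Matrix.smul_apply,
    Matrix.one_apply, Matrix.one_apply, smul_eq_mul, smul_eq_mul]
  split_ifs
  · simp
  · simp

/-- The images of the generators in the projective special unitary group. -/
noncomputable def gP (s : Fin 3) : Cfsg.PSU 4 F 3 :=
  QuotientGroup.mk' (Subgroup.center (Cfsg.SU 4 F 3)) (gS hF s)

theorem lift_gP : FreeGroup.lift (gP hF) =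
    (QuotientGroup.mk' (Subgroup.center (Cfsg.SU 4 F 3))).comp (FreeGroup.lift (gS hF)) := by
  apply FreeGroup.ext_hom
  intro s
  rw [FreeGroup.lift_apply_of, MonoidHom.comp_apply, FreeGroup.lift_apply_of]
  rfl

theorem rels : ∀ r ∈ pres.relsG, FreeGroup.lift (gP hF) r = 1 := by
  intro r hr
  rw [lift_gP, MonoidHom.comp_apply]
  exact (QuotientGroup.eq_one_iff _).2 (rels_center hF r hr)

/-- The homomorphism to the projective special unitary group. -/
noncomputable def theta : pres.PS →* Cfsg.PSU 4 F 3 := PresentedGroup.toGroup (rels hF)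

theorem theta_of (s : Fin 3) : theta hF (PresentedGroup.of s) = gP hF s :=
  PresentedGroup.toGroup.of (rels hF)

theorem theta_ne : theta hF (PresentedGroup.of 0) ≠ 1 := by
  rw [theta_of]
  intro h
  have h1 : gS hF 0 ∈ Subgroup.center (Cfsg.SU 4 F 3) := (QuotientGroup.eq_one_iff _).1 h
  rw [Subgroup.mem_center_iff] at h1
  have h2 := congrArg (fun g => (suToGL g).val) (h1 (gS hF 2))
  simp only [map_mul, hgen, Units.val_mul, glMap_val] at h2
  rw [← map_mul, ← map_mul] at h2
  have h3 : (U4 2).val * (U4 0).val = (U4 0).val * (U4 2).val := by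
    ext i j
    have h4 := congrFun (congrFun h2 i) j
    rw [RingHom.mapMatrix_apply, RingHom.mapMatrix_apply, Matrix.map_apply, Matrix.map_apply] at h4
    exact (eF hF).injective h4
  exact U4_ncomm h3.symm

theorem theta_ne2 : theta hF (PresentedGroup.of 2) ≠ 1 := by
  rw [theta_of]
  intro h
  have h1 : gS hF 2 ∈ Subgroup.center (Cfsg.SU 4 F 3) := (QuotientGroup.eq_one_iff _).1 h
  rw [Subgroup.mem_center_iff] at h1
  have h2 := congrArg (fun g => (suToGL g).val) (h1 (gS hF 0))
  simp only [map_mul, hgen, Units.val_mul, glMap_val] at h2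
  rw [← map_mul, ← map_mul] at h2
  have h3 : (U4 0).val * (U4 2).val = (U4 2).val * (U4 0).val := by
    ext i j
    have h4 := congrFun (congrFun h2 i) j
    rw [RingHom.mapMatrix_apply, RingHom.mapMatrix_apply, Matrix.map_apply, Matrix.map_apply] at h4
    exact (eF hF).injective h4
  exact U4_ncomm h3

theorem theta_injective : Function.Injective (theta hF) := by
  have := ps_simple.1
  exact injective_of_simple (theta hF) (PresentedGroup.of 0) (theta_ne hF)

include hF in
theorem card_SU : Nat.card (Cfsg.SU 4 F 3) = 13063680 := by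
  rw [Cfsg.Agent.Helper12.PSUAdj.card_SU_eq (hF' hF) 4 (by norm_num)]
  decide

include hF in
theorem card_center : Nat.card (Subgroup.center (Cfsg.SU 4 F 3)) = 4 := by
  rw [card_center_SU (hF' hF) 4 (by norm_num)]
  decide

include hF in
theorem card_PSU : Nat.card (Cfsg.PSU 4 F 3) = 3265920 := by
  have h := Subgroup.card_eq_card_quotient_mul_card_subgroup (Subgroup.center (Cfsg.SU 4 F 3))
  rw [card_SU hF, card_center hF] at h
  show Nat.card (Cfsg.SU 4 F 3 ⧸ Subgroup.center (Cfsg.SU 4 F 3)) = 3265920
  omega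

theorem theta_bijective : Function.Bijective (theta hF) := by
  have : Finite pres.PS := hub.1
  apply (theta_injective hF).bijective_of_nat_card_le
  rw [card_PSU hF, ps_simple.2]

/-- The isomorphism. -/
noncomputable def iso : pres.PS ≃* Cfsg.PSU 4 F 3 :=
  MulEquiv.ofBijective (theta hF) (theta_bijective hF)

include hF in
/-- The centre of the projective special unitary group is trivial. -/
theorem center_PSU : Subgroup.center (Cfsg.PSU 4 F 3) = ⊥ := by
  have hs : IsSimpleGroup (Cfsg.PSU 4 F 3) := by
    have := ps_simple.1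
    exact (iso hF).symm.isSimpleGroup
  have hn : (Subgroup.center (Cfsg.PSU 4 F 3)).Normal := inferInstance
  rcases hn.eq_bot_or_eq_top with h | h
  · exact h
  · exfalso
    have hp := @IsSimpleGroup.prime_card (Cfsg.PSU 4 F 3) (Group.commGroupOfCenterEqTop h) hs
    rw [card_PSU hF] at hp
    exact absurd hp (by norm_num)

end Generic

theorem nu_v_ne_one : nu pres (PresentedGroup.of 2) ≠ 1 := by
  rw [nu_of]
  intro h
  exact theta_ne2 F9.card (by rw [h, map_one])

end Cfsg.Agent.Helper9.U43M
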