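import Mathlib
import Cfsg.Agent.Lib.Helper9.U43M.Iso
import Cfsg.Agent.Lib.Helper9.TCData.U43P0.Comb

set_option autoImplicit false
set_option maxRecDepth 1000000

/-! The kernel of the covering group of `PSU(4,3)`: relations among the central generators from
the labelled coset table. -/

namespace Cfsg.Agent.Helper9.U43M

open Cfsg Cfsg.Agent.Helper9 Cfsg.Agent.Helper9.TC2 Cfsg.Agent.Helper9.TCData
  Cfsg.Spor Cfsg.Agent.Helper9.LTC Cfsg.Agent.Helper9.LTCM Cfsg.Agent.Helper9.LTCP
  Cfsg.Agent.Helper9.Stem4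
open scoped IsMulCommutative

/-- The columns in the covering group. -/
noncomputable def eC : ℕ → pres.PC := eCol [] pres.extraC cols

/-- The subgroup of the covering group. -/
abbrev H : Subgroup pres.PC := coxH [] pres.extraC {s | s ∈ [v]}

/-- The image of the third generator. -/
noncomputable def vbar : pres.PC := PresentedGroup.of 2

theorem H_eq : H = Subgroup.zpowers vbar := by
  have hS : ({s | s ∈ [v]} : Set FG) = {v} := by
    ext s
    simp
  unfold H coxH
  rw [hS, ← Subgroup.zpowers_eq_closure, MonoidHom.map_zpowers]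
  rfl

theorem vbar_pow : vbar ^ 7 = 1 := of_two_pow (P := pres)

theorem nu_vbar_ne : nu pres vbar ≠ 1 := nu_v_ne_one

theorem orderOf_nu_vbar : orderOf (nu pres vbar) = 7 := by
  have : Fact (Nat.Prime 7) := ⟨by norm_num⟩
  apply orderOf_eq_prime _ nu_vbar_ne
  rw [← map_pow, vbar_pow, map_one]

theorem orderOf_vbar : orderOf vbar = 7 := by
  have : Fact (Nat.Prime 7) := ⟨by norm_num⟩
  apply orderOf_eq_prime vbar_pow
  intro h
  exact nu_vbar_ne (by rw [h, map_one])

/-- An element of the subgroup generated by the third generator that lies in the kernel is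
trivial. -/
theorem zpowers_inf_ker (g : pres.PC) (hg : g ∈ Subgroup.zpowers vbar) (hk : g ∈ (nu pres).ker) :
    g = 1 := by
  obtain ⟨k, rfl⟩ := hg
  rw [MonoidHom.mem_ker, map_zpow] at hk
  have h1 : (orderOf (nu pres vbar) : ℤ) ∣ k := orderOf_dvd_iff_zpow_eq_one.2 hk
  rw [orderOf_nu_vbar] at h1
  have h2 : (orderOf vbar : ℤ) ∣ k := by rw [orderOf_vbar]; exact h1
  exact orderOf_dvd_iff_zpow_eq_one.1 h2

theorem Rl_getD_mem {j : ℕ} (h : j < 7) : pres.Rl.getD j 1 ∈ pres.Rl := by
  have hl : j < pres.Rl.length := h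
  rw [List.getD_eq_getElem _ _ hl]
  exact List.getElem_mem hl

/-- The central elements. -/
noncomputable def zc (j : ℕ) : Subgroup.center pres.PC :=
  if h : j < 7 then ⟨z pres (pres.Rl.getD j 1), z_central (Rl_getD_mem h)⟩ else 1

theorem zc_lt {j : ℕ} (h : j < 7) : (zc j : pres.PC) = z pres (pres.Rl.getD j 1) := by
  unfold zc
  rw [dif_pos h]

theorem zc_pow (i : ℕ) : zc i ^ (216 : ℤ) = 1 := by
  by_cases h : i < 7
  · apply Subtype.ext
    rw [Subgroup.coe_zpow, zc_lt h]
    have e : z pres (pres.Rl.getD i 1) ^ (216 : ℤ) = z pres (pres.Rl.getD i 1) ^ (216 : ℕ) :=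
      zpow_natCast _ 216
    rw [e]
    exact z_pow (Rl_getD_mem h)
  · unfold zc
    rw [dif_neg h, one_zpow]

theorem zc_mem (j : ℕ) : (zc j : pres.PC) ∈ Z pres := by
  by_cases h : j < 7
  · rw [zc_lt h]
    exact Subgroup.subset_closure ⟨_, Rl_getD_mem h, rfl⟩
  · unfold zc
    rw [dif_neg h]
    exact (Z pres).one_mem

theorem zeta_mem (f : ℕ → ℤ) : (zeta zc 7 f : pres.PC) ∈ Z pres := by
  have h : zeta zc 7 f ∈ (Z pres).comap (Subgroup.center pres.PC).subtype := by
    unfold zeta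
    apply Subgroup.prod_mem
    intro i _
    apply Subgroup.zpow_mem
    exact zc_mem i
  exact h

/-! ### The relators -/

theorem hrelW' : U43P0.relWords =
    [v ^ 7, v⁻¹ * a * b, X, a ^ 2, b ^ 5, R32, R33, R34, R39, R40].map (colWord cols) := by
  rw [hrelW, extraG_eq]

theorem prod_eC (r : FG) :
    ((colWord cols r).map eC).prod = PresentedGroup.mk pres.relsC r :=
  prod_colWord_eCol colsOK r

theorem hrel_one {r : FG} (hr : r ∈ pres.extraC) :
    ((colWord cols r).map eC).prod = (zeta zc 7 (vec []) : pres.PC) := by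
  rw [prod_eC, PresentedGroup.one_of_mem (mem_relsC hr), vec_nil, zeta_zero]
  rfl

theorem hrel_z (j : ℕ) (hj : j < 7) (R : FG) (hR : pres.Rl.getD j 1 = R) :
    ((colWord cols R).map eC).prod = (zeta zc 7 (vec (unitV j)) : pres.PC) := by
  rw [prod_eC, vec_unitV, zeta_single _ _ hj, zc_lt hj, hR]
  rfl

theorem hrel (j : ℕ) : ((U43P0.relWords.getD j []).map eC).prod =
    (zeta zc U43P0.tab.d (vec (U43P0.relLabs.getD j [])) : pres.PC) := by
  rw [hrelW', hrelL]
  by_cases hj : j < 10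
  · interval_cases j
    · exact hrel_one (v13_mem (P := pres))
    · exact hrel_one vab_mem
    · exact hrel_one X_mem
    · exact hrel_z 0 (by norm_num) (a ^ 2) rfl
    · exact hrel_z 1 (by norm_num) (b ^ 5) rfl
    · exact hrel_z 2 (by norm_num) R32 rfl
    · exact hrel_z 3 (by norm_num) R33 rfl
    · exact hrel_z 4 (by norm_num) R34 rfl
    · exact hrel_z 5 (by norm_num) R39 rfl
    · exact hrel_z 6 (by norm_num) R40 rfl
  · rw [List.getD_eq_default _ _ (by simp; omega), List.getD_eq_default _ _ (by simp; omega),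
      vec_nil, zeta_zero]
    rfl

theorem v_mem_H : eC 4 ∈ H := by
  have hl : 4 < cols.length := by decide
  rw [eC, eCol_of_lt hl]
  exact Subgroup.mem_map_of_mem _ (Subgroup.subset_closure (by simp [cols, v]; rfl))

/-- The interpretation of the labelled table. -/
noncomputable def interp : LInterp H U43P0.tab where
  e := eC
  zc := zc
  e_inv := by
    intro c hc
    have hl : c < cols.length := hc
    rw [inv_eq c hc, eC, eCol_invCol colsOK hl, mul_inv_cancel]
  rot_ok := rot_ok_of_chkP U43P0.tab eC zc U43P0.relWords U43P0.relLabs U43P0.rotSrc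
    U43P0.rot_src hrel
  hcols_ok := by
    intro c hc
    have hc2 : c = 4 := by simpa [U43P0.tab, U43P0.ptab, LTCP.PTab.toLTab] using hc
    subst hc2
    exact v_mem_H
  free_ok := by
    intro i hi
    exact absurd hi (by show ¬ (7 + i < 7); omega)

theorem zeta_rho : ∀ ρ ∈ U43P0.rhos, zeta zc 7 (vec ρ) = 1 := by
  intro ρ hρ
  obtain ⟨i, s, hs, h⟩ := U43P0.rel_all ρ hρ
  have h1 : (zeta zc 7 (vec ρ) : pres.PC) ∈ H :=
    relVecM_sound interp zc_pow U43P0.h0 U43P0.hE hs h
  have h2 : (zeta zc 7 (vec ρ) : pres.PC) ∈ Z pres := zeta_mem _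
  apply Subtype.ext
  rw [H_eq] at h1
  rw [← ker_eq] at h2
  exact zpowers_inf_ker _ h1 h2

/-! ### The relations among the central generators -/

theorem zeta_tgt {i : ℕ} (hi : i < 7) : zeta zc 7 (vec (U43P0.tgts.getD i [])) = 1 := by
  have h := zeta_vcomb zc 7 (U43P0.combs.getD i []) U43P0.rhos zeta_rho
  rwa [zeta_of_veqM zc 7 zc_pow (U43P0.comb_ok i hi)] at h

theorem zeta_unit {j : ℕ} (hj : j < 7) :
    (zeta zc 7 (vec (unitV j)) : pres.PC) = z pres (pres.Rl.getD j 1) := by
  rw [vec_unitV, zeta_single _ _ hj, zc_lt hj]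

theorem z_eq_of {j : ℕ} (hj : j < 7) (m k : ℤ)
    (h : U43P0.tgts.getD j [] =
      vsub (unitV j) (vadd (vsmul m (unitV 5)) (vsmul k (unitV 6)))) :
    z pres (pres.Rl.getD j 1) = z pres R39 ^ m * z pres R40 ^ k := by
  have h1 := zeta_tgt hj
  rw [h, vec_vsub, zeta_sub, vec_vadd, zeta_add, vec_vsmul, zeta_smul, vec_vsmul, zeta_smul] at h1
  have h2 := congrArg (fun x : Subgroup.center pres.PC => (x : pres.PC)) h1
  simp only [Subgroup.coe_mul, Subgroup.coe_inv, Subgroup.coe_zpow, Subgroup.coe_one] at h2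
  rw [zeta_unit hj, zeta_unit (by norm_num : 5 < 7), zeta_unit (by norm_num : 6 < 7)] at h2
  exact mul_inv_eq_one.1 h2

theorem z5_z6 : z pres R39 ^ 3 * z pres R40 ^ 9 = 1 := by
  have h1 := zeta_tgt (by norm_num : 5 < 7)
  have e : U43P0.tgts.getD 5 [] = vadd (vsmul 3 (unitV 5)) (vsmul 9 (unitV 6)) := rfl
  rw [e, vec_vadd, zeta_add, vec_vsmul, zeta_smul, vec_vsmul, zeta_smul] at h1
  have h2 := congrArg (fun x : Subgroup.center pres.PC => (x : pres.PC)) h1
  simp only [Subgroup.coe_mul, Subgroup.coe_zpow, Subgroup.coe_one] at h2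
  rw [zeta_unit (by norm_num : 5 < 7), zeta_unit (by norm_num : 6 < 7)] at h2
  have h3 : z pres R39 ^ (3 : ℤ) * z pres R40 ^ (9 : ℤ) = 1 := h2
  rw [← h3]
  rfl

theorem z6_pow : z pres R40 ^ 12 = 1 := by
  have h1 := zeta_tgt (by norm_num : 6 < 7)
  have e : U43P0.tgts.getD 6 [] = vsmul 12 (unitV 6) := rfl
  rw [e, vec_vsmul, zeta_smul] at h1
  have h2 := congrArg (fun x : Subgroup.center pres.PC => (x : pres.PC)) h1
  simp only [Subgroup.coe_zpow, Subgroup.coe_one] at h2
  rw [zeta_unit (by norm_num : 6 < 7)] at h2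
  have h3 : z pres R40 ^ (12 : ℤ) = 1 := h2
  rw [← h3]
  exact (zpow_natCast (z pres R40) 12).symm

/-- The subgroup generated by the last two central generators. -/
noncomputable def Z2 : Subgroup pres.PC := Subgroup.closure {z pres R39, z pres R40}

theorem z5_mem : z pres R39 ∈ Z2 := Subgroup.subset_closure (by simp)

theorem z6_mem : z pres R40 ∈ Z2 := Subgroup.subset_closure (by simp)

theorem zz_mem (m k : ℤ) : z pres R39 ^ m * z pres R40 ^ k ∈ Z2 :=
  Z2.mul_mem (Z2.zpow_mem z5_mem m) (Z2.zpow_mem z6_mem k)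

/-- Every central generator is a product of powers of the last two. -/
theorem z_mem_Z2 {R : FG} (hR : R ∈ pres.Rl) : z pres R ∈ Z2 := by
  rcases Rl_cases hR with rfl | rfl | rfl | rfl | rfl | rfl | rfl
  · rw [show z pres (a ^ 2) = z pres R39 ^ (1 : ℤ) * z pres R40 ^ (7 : ℤ) from
      z_eq_of (j := 0) (by norm_num) 1 7 rfl]
    exact zz_mem _ _
  · rw [show z pres (b ^ 5) = z pres R39 ^ (0 : ℤ) * z pres R40 ^ (0 : ℤ) from
      z_eq_of (j := 1) (by norm_num) 0 0 rfl]
    exact zz_mem _ _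
  · rw [show z pres R32 = z pres R39 ^ (2 : ℤ) * z pres R40 ^ (10 : ℤ) from
      z_eq_of (j := 2) (by norm_num) 2 10 rfl]
    exact zz_mem _ _
  · rw [show z pres R33 = z pres R39 ^ (1 : ℤ) * z pres R40 ^ (11 : ℤ) from
      z_eq_of (j := 3) (by norm_num) 1 11 rfl]
    exact zz_mem _ _
  · rw [show z pres R34 = z pres R39 ^ (1 : ℤ) * z pres R40 ^ (7 : ℤ) from
      z_eq_of (j := 4) (by norm_num) 1 7 rfl]
    exact zz_mem _ _
  · exact z5_mem
  · exact z6_mem

theorem Z_le_Z2 : Z pres ≤ Z2 := by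
  rw [Z, Subgroup.closure_le]
  rintro _ ⟨R, hR, rfl⟩
  exact z_mem_Z2 hR

end Cfsg.Agent.Helper9.U43M
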