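import Mathlib
import Cfsg.Agent.Lib.Helper9.U43M.CoverU
import Cfsg.Agent.Lib.Helper9.LPerm
import Cfsg.Agent.Lib.Helper9.AbHom
import Cfsg.Agent.Lib.Helper9.TCData.U43M0.All

set_option autoImplicit false
set_option maxRecDepth 1000000

/-! The kernel of the covering group of `PSU(4,3)` has order 36 and is the product of cyclic groups
of orders 4, 3, 3: the lower bound comes from a permutation representation of the covering group
on the points of a labelled coset table with 540 nodes and labels in `ZMod 12 × ZMod 3`. -/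

namespace Cfsg.Agent.Helper9.U43M

open Cfsg Cfsg.Agent.Helper9 Cfsg.Agent.Helper9.TC2 Cfsg.Agent.Helper9.TCData Cfsg.Spor
  Cfsg.Agent.Helper9.LTC Cfsg.Agent.Helper9.LPerm Cfsg.Agent.Helper9.Stem4

/-- The points. -/
abbrev Ω : Type := Pt U43M0.ptab

/-- The columns as permutations. -/
noncomputable def E (c : ℕ) : Equiv.Perm Ω := permP U43M0.pok c

/-- Words acting trivially in the permutation representation. -/
def fixList : List FG := [v ^ 7, v⁻¹ * a * b, X] ++ pres.Rl.map (fun R => R ^ 12) ++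
  pres.Rl.map (fun R => cm R a) ++ pres.Rl.map (fun R => cm R b)

theorem hfixW : U43M0.fixWords = fixList.map (fun r => (colWord cols r).reverse) := by
  decide +kernel

theorem hzW : U43M0.zWords = pres.Rl.map (fun r => (colWord cols r).reverse) := by
  decide +kernel

/-- The generators as permutations. -/
noncomputable def fP (i : Fin 3) : Equiv.Perm Ω := E (cols.idxOf (i, true))

theorem idx_lt (x : Fin 3) : cols.idxOf (x, true) < U43M0.ptab.k := by
  fin_cases x <;> decide

theorem idx_false (x : Fin 3) :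
    cols.idxOf (x, false) = U43M0.ptab.inv (cols.idxOf (x, true)) := by
  fin_cases x <;> rfl

theorem lift_fP (r : FG) : FreeGroup.lift fP r = wprod E (colWord cols r).reverse := by
  rw [wprod_eq_prod, List.reverse_reverse]
  symm
  apply prod_colWord colsOK (FreeGroup.lift fP) E
  · intro x
    rw [FreeGroup.lift_apply_of]
    rfl
  · intro x _
    rw [FreeGroup.lift_apply_of, idx_false]
    exact permP_inv U43M0.pok (idx_lt x)
  · intro x hx
    exact absurd (by fin_cases x <;> decide) hx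

theorem word_lt (r : FG) : ∀ c ∈ (colWord cols r).reverse, c < U43M0.ptab.k := by
  intro c hc
  exact colWord_lt colsOK r c (List.mem_reverse.1 hc)

theorem lift_eq_one_of_mem {r : FG} (h : r ∈ fixList) : FreeGroup.lift fP r = 1 := by
  rw [lift_fP]
  refine wprod_eq_one U43M0.pok U43M0.hFix ?_ (word_lt r)
  rw [hfixW]
  exact List.mem_map_of_mem h

theorem v7_memF : v ^ 7 ∈ fixList := by
  unfold fixList
  simp

theorem vab_memF : v⁻¹ * a * b ∈ fixList := by
  unfold fixList
  simp

theorem X_memF : X ∈ fixList := by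
  unfold fixList
  simp

theorem R12_memF {R : FG} (hR : R ∈ pres.Rl) : R ^ 12 ∈ fixList := by
  unfold fixList
  simp only [List.mem_append, List.mem_map]
  exact Or.inl (Or.inl (Or.inr ⟨R, hR, rfl⟩))

theorem cma_memF {R : FG} (hR : R ∈ pres.Rl) : cm R a ∈ fixList := by
  unfold fixList
  simp only [List.mem_append, List.mem_map]
  exact Or.inl (Or.inr ⟨R, hR, rfl⟩)

theorem cmb_memF {R : FG} (hR : R ∈ pres.Rl) : cm R b ∈ fixList := by
  unfold fixList
  simp only [List.mem_append, List.mem_map]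
  exact Or.inr ⟨R, hR, rfl⟩

/-- The permutation representation of the covering group. -/
noncomputable def Psi : pres.PC →* Equiv.Perm Ω :=
  PresentedGroup.toGroup (f := fP) (by
    intro r hr
    rcases extraC_cases (relsC_cases hr) with rfl | rfl | rfl | ⟨R, hR, rfl⟩ | ⟨R, hR, rfl⟩ |
      ⟨R, hR, rfl⟩
    · exact lift_eq_one_of_mem v7_memF
    · exact lift_eq_one_of_mem vab_memF
    · exact lift_eq_one_of_mem X_memF
    · have h12 : FreeGroup.lift fP R ^ 12 = 1 := by
        rw [← map_pow]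
        exact lift_eq_one_of_mem (R12_memF hR)
      rw [map_pow, show pres.q = 12 * 18 from rfl, pow_mul, h12, one_pow]
    · exact lift_eq_one_of_mem (cma_memF hR)
    · exact lift_eq_one_of_mem (cmb_memF hR))

theorem Psi_mk (r : FG) :
    Psi (PresentedGroup.mk pres.relsC r) = wprod E (colWord cols r).reverse := by
  rw [← lift_fP]
  rfl

/-- The permutation translates the points over the node `0`. -/
def IsTrans (g : Equiv.Perm Ω) (s1 : ZMod U43M0.ptab.a1) (s2 : ZMod U43M0.ptab.a2) : Prop :=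
  ∀ x y, g ((0 : ℕ), x, y) = ((0 : ℕ), x + s1, y + s2)

theorem IsTrans.mul {g h : Equiv.Perm Ω} {s1 t1 : ZMod U43M0.ptab.a1}
    {s2 t2 : ZMod U43M0.ptab.a2} (hg : IsTrans g s1 s2) (hh : IsTrans h t1 t2) :
    IsTrans (g * h) (t1 + s1) (t2 + s2) := by
  intro x y
  rw [Equiv.Perm.mul_apply, hh x y, hg, add_assoc, add_assoc]

theorem IsTrans.one : IsTrans 1 0 0 := by
  intro x y
  rw [Equiv.Perm.one_apply, add_zero, add_zero]

theorem IsTrans.pow {g : Equiv.Perm Ω} {s1 : ZMod U43M0.ptab.a1}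
    {s2 : ZMod U43M0.ptab.a2} (hg : IsTrans g s1 s2) (n : ℕ) :
    IsTrans (g ^ n) ((n : ZMod U43M0.ptab.a1) * s1) ((n : ZMod U43M0.ptab.a2) * s2) := by
  induction n with
  | zero =>
    rw [pow_zero, Nat.cast_zero, Nat.cast_zero, zero_mul, zero_mul]
    exact IsTrans.one
  | succ n ih =>
    rw [pow_succ]
    have h := ih.mul hg
    have e1 : ((n + 1 : ℕ) : ZMod U43M0.ptab.a1) * s1 = s1 + (n : ZMod U43M0.ptab.a1) * s1 := by
      push_cast
      ring
    have e2 : ((n + 1 : ℕ) : ZMod U43M0.ptab.a2) * s2 = s2 + (n : ZMod U43M0.ptab.a2) * s2 := by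
      push_cast
      ring
    rw [e1, e2]
    exact h

theorem trans_z5 : IsTrans (Psi (z pres R39)) ((1 : ℕ) : ZMod U43M0.ptab.a1)
    ((1 : ℕ) : ZMod U43M0.ptab.a2) := by
  intro x y
  rw [z, Psi_mk]
  have hw : (colWord cols R39).reverse = U43M0.zWords.getD 5 [] := by
    rw [hzW]
    rfl
  have h := wprod_of_chkW U43M0.pok (w := U43M0.zWords.getD 5 []) (by rw [← hw]; exact word_lt _)
    (by decide : 0 < U43M0.ptab.n) U43M0.hz_5 x y
  rw [hw]
  exact h

theorem trans_z6 : IsTrans (Psi (z pres R40)) ((1 : ℕ) : ZMod U43M0.ptab.a1)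
    ((0 : ℕ) : ZMod U43M0.ptab.a2) := by
  intro x y
  rw [z, Psi_mk]
  have hw : (colWord cols R40).reverse = U43M0.zWords.getD 6 [] := by
    rw [hzW]
    rfl
  have h := wprod_of_chkW U43M0.pok (w := U43M0.zWords.getD 6 []) (by rw [← hw]; exact word_lt _)
    (by decide : 0 < U43M0.ptab.n) U43M0.hz_6 x y
  rw [hw]
  exact h

theorem trans_ij (i j : ℕ) : IsTrans (Psi (z pres R39 ^ i * z pres R40 ^ j))
    ((j : ZMod U43M0.ptab.a1) * ((1 : ℕ) : ZMod U43M0.ptab.a1) +
      (i : ZMod U43M0.ptab.a1) * ((1 : ℕ) : ZMod U43M0.ptab.a1))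
    ((j : ZMod U43M0.ptab.a2) * ((0 : ℕ) : ZMod U43M0.ptab.a2) +
      (i : ZMod U43M0.ptab.a2) * ((1 : ℕ) : ZMod U43M0.ptab.a2)) := by
  rw [map_mul, map_pow, map_pow]
  exact (trans_z5.pow i).mul (trans_z6.pow j)

theorem solve : ∀ x : ZMod 12, ∀ y : ZMod 3, ∃ i : ℕ, i < 3 ∧ ∃ j : ℕ, j < 12 ∧
    ((j : ℕ) : ZMod 12) * ((1 : ℕ) : ZMod 12) + ((i : ℕ) : ZMod 12) * ((1 : ℕ) : ZMod 12) = x ∧
    ((j : ℕ) : ZMod 3) * ((0 : ℕ) : ZMod 3) + ((i : ℕ) : ZMod 3) * ((1 : ℕ) : ZMod 3) = y := by
  decide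

/-! ### The order of the kernel -/

theorem mem_Z_ij (i j : ℕ) : z pres R39 ^ i * z pres R40 ^ j ∈ Z pres :=
  (Z pres).mul_mem ((Z pres).pow_mem (Subgroup.subset_closure ⟨R39, R39_mem, rfl⟩) i)
    ((Z pres).pow_mem (Subgroup.subset_closure ⟨R40, R40_mem, rfl⟩) j)

/-- The translation of an element of the kernel. -/
noncomputable def tr (g : Z pres) : ZMod U43M0.ptab.a1 × ZMod U43M0.ptab.a2 :=
  (Psi (g : pres.PC) ((0 : ℕ), 0, 0)).2

theorem tr_surjective : Function.Surjective tr := by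
  rintro ⟨x, y⟩
  obtain ⟨i, -, j, -, h1, h2⟩ := solve x y
  refine ⟨⟨z pres R39 ^ i * z pres R40 ^ j, mem_Z_ij i j⟩, ?_⟩
  unfold tr
  rw [trans_ij i j 0 0, zero_add, zero_add]
  exact Prod.ext h1 h2

theorem card_target : Nat.card (ZMod U43M0.ptab.a1 × ZMod U43M0.ptab.a2) = 36 := by
  show Nat.card (ZMod 12 × ZMod 3) = 36
  rw [Nat.card_prod, Nat.card_zmod, Nat.card_zmod]

theorem card_dom : Nat.card (Multiplicative (ZMod 4 × ZMod 3 × ZMod 3)) = 36 := by
  show Nat.card (ZMod 4 × ZMod 3 × ZMod 3) = 36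
  rw [Nat.card_prod, Nat.card_prod, Nat.card_zmod, Nat.card_zmod]

/-- A generator of the kernel as an element of the centre. -/
noncomputable def tC : Subgroup.center pres.PC := ⟨z pres R40, z_central R40_mem⟩

/-- A second generator of the kernel as an element of the centre. -/
noncomputable def sC : Subgroup.center pres.PC := ⟨z pres R39, z_central R39_mem⟩ * tC ^ 3

open scoped IsMulCommutative in
theorem exists_hom : ∃ ψ : Multiplicative (ZMod 4 × ZMod 3 × ZMod 3) →* pres.PC,
    Z pres ≤ ψ.range := by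
  have h1 : (tC ^ 3) ^ 4 = 1 := by
    apply Subtype.ext
    show (z pres R40 ^ 3) ^ 4 = 1
    rw [← pow_mul]
    exact z6_pow
  have h2 : (tC ^ 4) ^ 3 = 1 := by
    apply Subtype.ext
    show (z pres R40 ^ 4) ^ 3 = 1
    rw [← pow_mul]
    exact z6_pow
  have h3 : sC ^ 3 = 1 := by
    unfold sC
    rw [mul_pow, ← pow_mul]
    apply Subtype.ext
    show z pres R39 ^ 3 * z pres R40 ^ (3 * 3) = 1
    exact z5_z6
  obtain ⟨φ, ha, hb, hc⟩ := AbHom.exists_hom_three 4 3 3 (tC ^ 3) (tC ^ 4) sC h1 h2 h3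
  refine ⟨(Subgroup.center pres.PC).subtype.comp φ, ?_⟩
  have ha' : z pres R40 ^ 3 ∈ ((Subgroup.center pres.PC).subtype.comp φ).range := by
    obtain ⟨x, hx⟩ := ha
    exact ⟨x, by rw [MonoidHom.comp_apply, hx]; rfl⟩
  have hb' : z pres R40 ^ 4 ∈ ((Subgroup.center pres.PC).subtype.comp φ).range := by
    obtain ⟨x, hx⟩ := hb
    exact ⟨x, by rw [MonoidHom.comp_apply, hx]; rfl⟩
  have hc' : z pres R39 * z pres R40 ^ 3 ∈ ((Subgroup.center pres.PC).subtype.comp φ).range := by
    obtain ⟨x, hx⟩ := hc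
    exact ⟨x, by rw [MonoidHom.comp_apply, hx]; rfl⟩
  set Rg := ((Subgroup.center pres.PC).subtype.comp φ).range with hRg
  have h6 : z pres R40 ∈ Rg := by
    have e : z pres R40 = z pres R40 ^ 4 * (z pres R40 ^ 3)⁻¹ := by group
    rw [e]
    exact Rg.mul_mem hb' (Rg.inv_mem ha')
  have h5 : z pres R39 ∈ Rg := by
    have e : z pres R39 = z pres R39 * z pres R40 ^ 3 * (z pres R40 ^ 3)⁻¹ := by group
    rw [e]
    exact Rg.mul_mem hc' (Rg.inv_mem ha')
  refine Z_le_Z2.trans ?_
  rw [Z2, Subgroup.closure_le]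
  intro g hg
  rcases hg with rfl | rfl
  · exact h5
  · exact h6

/-- The kernel is the product of cyclic groups of orders 4, 3 and 3. -/
theorem ker_structure : Finite (Z pres) ∧ Nat.card (Z pres) = 36 ∧
    Nonempty ((nu pres).ker ≃* Multiplicative (ZMod 4 × ZMod 3 × ZMod 3)) := by
  obtain ⟨ψ, hψ⟩ := exists_hom
  have hfinR : Finite ψ.range := Finite.of_surjective ψ.rangeRestrict ψ.rangeRestrict_surjective
  have hcardR : Nat.card ψ.range ≤ 36 := by
    rw [← card_dom]
    exact Nat.card_le_card_of_surjective ψ.rangeRestrict ψ.rangeRestrict_surjective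
  have hfinZ : Finite (Z pres) := Finite.of_injective (Subgroup.inclusion hψ)
    (Subgroup.inclusion_injective hψ)
  have hle : Nat.card (Z pres) ≤ Nat.card ψ.range := Subgroup.card_le_of_le hψ
  have hge : 36 ≤ Nat.card (Z pres) := by
    rw [← card_target]
    exact Nat.card_le_card_of_surjective tr tr_surjective
  have hZ : Nat.card (Z pres) = 36 := by omega
  have hR : Nat.card ψ.range = 36 := by omega
  have hZR : Z pres = ψ.range := Subgroup.eq_of_le_of_card_ge hψ (by omega)
  have hbij : Function.Bijective ψ.rangeRestrict :=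
    (Nat.bijective_iff_surjective_and_card _).2 ⟨ψ.rangeRestrict_surjective, by
      rw [card_dom, hR]⟩
  refine ⟨hfinZ, hZ, ⟨?_⟩⟩
  exact (MulEquiv.subgroupCongr (ker_eq.trans hZR)).trans (MulEquiv.ofBijective _ hbij).symm

instance finite_PC : Finite pres.PC := by
  have h1 : Finite (nu pres).ker := by
    rw [ker_eq]
    exact ker_structure.1
  have h2 : Finite (pres.PC ⧸ (nu pres).ker) := by
    have : Finite pres.PS := hub.1
    exact Finite.of_equiv _
      (QuotientGroup.quotientKerEquivOfSurjective (nu pres) nu_surjective).toEquiv.symm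
  exact Finite.of_subgroup_quotient (nu pres).ker

end Cfsg.Agent.Helper9.U43M
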